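import Groth.Agent.IsoNatClean.Sep
import Groth.Agent.ASt.Rep
/-!
Separatedness of classes and representability by spaces depend only on the presheaf of classes.
-/

set_option autoImplicit false
set_option backward.isDefEq.respectTransparency false
set_option backward.isDefEq.respectTransparency.types false
set_option linter.unusedSectionVars false

universe u

open CategoryTheory CategoryTheory.Limits AlgebraicGeometry Opposite

namespace Groth.Agent.IsoNatClean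

open Groth.Agent.ASt

variable {S : Scheme.{u}} {𝒳 𝒴 : AlgSt.Cat S} [h𝒳 : FibCat.IsFibGrpd 𝒳.p] [h𝒴 : FibCat.IsFibGrpd 𝒴.p]

theorem sep_iff : Sep 𝒳 ↔ ∀ (T T' : Over S) (π : T' ⟶ T), Flat π.left → Surjective π.left →
    LocallyOfFinitePresentation π.left → Function.Injective (clMap (𝒳 := 𝒳) π) := by
  constructor
  · intro h T T' π h1 h2 h3 c₁ c₂ hc
    obtain ⟨x₁, hx₁, rfl⟩ := cl_exists c₁
    obtain ⟨x₂, hx₂, rfl⟩ := cl_exists c₂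
    obtain ⟨i⟩ := h T T' π ⟨x₁, hx₁⟩ ⟨x₂, hx₂⟩ ⟨pull x₁ hx₁ π, pull_base x₁ hx₁ π⟩
      ⟨pull x₂ hx₂ π, pull_base x₂ hx₂ π⟩ (pullHom x₁ hx₁ π) (pullHom x₂ hx₂ π)
      (isHomLift_of_map _ (pull_base x₁ hx₁ π) hx₁ (map_pullHom x₁ hx₁ π))
      (isHomLift_of_map _ (pull_base x₂ hx₂ π) hx₂ (map_pullHom x₂ hx₂ π)) (Quotient.exact hc)
    exact Quotient.sound ⟨i⟩
  · intro h T T' π h1 h2 h3 x₁ x₂ x₁' x₂' a₁ a₂ ha₁ ha₂ ⟨i⟩
    refine Quotient.exact (h T T' π h1 h2 h3 (a₁ := cl x₁.1 x₁.2) (a₂ := cl x₂.1 x₂.2) ?_)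
    rw [clMap_cl π a₁ x₁'.2 x₁.2 (IsHomLift.fac' 𝒳.p π a₁), clMap_cl π a₂ x₂'.2 x₂.2 (IsHomLift.fac' 𝒳.p π a₂)]
    exact Quotient.sound ⟨i⟩

theorem toEquiv_clMap (φ : IsoNat.FIso 𝒳 𝒴) {T' T : Over S} (f : T' ⟶ T) (c : ClType 𝒳 T) :
    φ.toEquiv T' (clMap f c) = clMap f (show ClType 𝒴 T from φ.toEquiv T c) := by
  obtain ⟨x, hx, rfl⟩ := cl_exists c
  obtain ⟨y', y, b, hb, e', e⟩ := φ.natural f ⟨pull x hx f, pull_base x hx f⟩ ⟨x, hx⟩ (pullHom x hx f)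
    (isHomLift_of_map _ (pull_base x hx f) hx (map_pullHom x hx f))
  refine e'.trans ?_
  refine Eq.trans ?_ (congrArg (clMap f) e.symm)
  exact (clMap_cl f b y'.2 y.2 (IsHomLift.fac' 𝒴.p f b)).symm

theorem sep_transfer (φ : IsoNat.FIso 𝒳 𝒴) (h : Sep 𝒳) : Sep 𝒴 := by
  rw [sep_iff] at h ⊢
  intro T T' π h1 h2 h3 c₁ c₂ hc
  obtain ⟨d₁, hd₁⟩ := (φ.toEquiv T).surjective c₁
  obtain ⟨d₂, hd₂⟩ := (φ.toEquiv T).surjective c₂
  subst hd₁ hd₂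
  refine congrArg (φ.toEquiv T) (h T T' π h1 h2 h3 ((φ.toEquiv T').injective ?_))
  exact (toEquiv_clMap φ π d₁).trans (hc.trans (toEquiv_clMap φ π d₂).symm)

/-- The isomorphism of presheaves of classes. -/
noncomputable def clIso (φ : IsoNat.FIso 𝒳 𝒴) : Cl 𝒳 ≅ Cl 𝒴 :=
  NatIso.ofComponents (fun T => Equiv.toIso (X := (Cl 𝒳).obj T) (Y := (Cl 𝒴).obj T) (φ.toEquiv T.unop))
    fun {T T'} f => by
      ext c
      exact toEquiv_clMap φ f.unop c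

theorem isClean_of_faithful [𝒳.p.Faithful] (η : 𝒳.obj) : IsoNat.IsClean η :=
  fun x _ s hs => 𝒳.p.map_injective (hs.trans (𝒳.p.map_id x).symm)

theorem faithful_of_isClean (h : ∀ η : 𝒳.obj, IsoNat.IsClean η) : 𝒳.p.Faithful :=
  ⟨fun {_ η} _ _ e => eq_of_isClean (h η) e⟩

theorem repByAlgSp_transfer (hst : Stk.IsStack (AlgSp.J S) 𝒳) (hst' : Stk.IsStack (AlgSp.J S) 𝒴)
    (hd' : AlgSt.RepByAlgSpWith (AlgSp.IsSeparatedMor ⊓ AlgSp.IsQuasiCompactMor)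
      (FibCat.diag (FibCat.toSelf 𝒴)))
    (φ : IsoNat.FIso 𝒳 𝒴) (hsp : AlgSt.RepByAlgSp 𝒳) : AlgSt.RepByAlgSp 𝒴 := by
  obtain ⟨hf, hA⟩ := repByAlgSp_iff.1 hsp
  have := sep_transfer φ (sep_of_isClean hst fun η => isClean_of_faithful η)
  exact repByAlgSp_iff.2 ⟨faithful_of_isClean fun η => isClean_of_sep hst' hd' this η, hA.of_iso (clIso φ)⟩

end Groth.Agent.IsoNatClean
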