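import Groth.Agent.IsoNatClean.Twist
/-!
Twisted descent data: separatedness of the classes forces their gluing to be trivial.
-/

set_option autoImplicit false
set_option backward.isDefEq.respectTransparency false
set_option backward.isDefEq.respectTransparency.types false
set_option linter.unusedSectionVars false

universe u

open CategoryTheory AlgebraicGeometry

namespace Groth.Agent.IsoNatClean

open Groth.Agent.ASt Groth.Agent.RepOne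

variable {S : Scheme.{u}} {𝒳 : AlgSt.Cat S} [h𝒳 : FibCat.IsFibGrpd 𝒳.p]

variable (𝒳) in
/-- Separatedness of the presheaf of classes for coverings. -/
def Sep : Prop :=
  ∀ (T T' : Over S) (π : T' ⟶ T) [Flat π.left] [Surjective π.left] [LocallyOfFinitePresentation π.left]
    (x₁ x₂ : 𝒳.p.Fiber T) (x₁' x₂' : 𝒳.p.Fiber T') (a₁ : x₁'.1 ⟶ x₁.1) (a₂ : x₂'.1 ⟶ x₂.1),
    𝒳.p.IsHomLift π a₁ → 𝒳.p.IsHomLift π a₂ → Nonempty (x₁' ≅ x₂') → Nonempty (x₁ ≅ x₂)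

/-- The sieve of morphisms factoring through `π`. -/
def facSieve {T T' : Over S} (π : T' ⟶ T) : Sieve T where
  arrows W g := ∃ l, l ≫ π = g
  downward_closed := fun {W W'} g ⟨l, hl⟩ k => ⟨k ≫ l, by rw [Category.assoc, hl]⟩

theorem facSieve_mem {T T' : Over S} (π : T' ⟶ T) [Flat π.left] [Surjective π.left]
    [LocallyOfFinitePresentation π.left] : facSieve π ∈ (AlgSp.J S) T := by
  refine GrothendieckTopology.superset_covering _ ?_
    (Groth.Agent.ASp.ofArrows_mem_J (T := T) (U := fun _ : PUnit.{u + 1} => T') (c := fun _ => π)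
      (fun _ => inferInstance) (fun _ => inferInstance) fun t => ⟨⟨⟩, π.left.surjective t⟩)
  rw [Sieve.ofArrows, Sieve.generate_le_iff]
  rintro _ _ ⟨⟩
  exact ⟨𝟙 _, Category.id_comp _⟩

section Twist

variable (hst : Stk.IsStack (AlgSp.J S) 𝒳) {x : 𝒳.obj} (s : Aut x) (hs : 𝒳.p.map s.hom = 𝟙 (𝒳.p.obj x))
  {T T' : Over S} (π : T' ⟶ T) (h : ↥T'.left → ℤ) (χ : ↥T.left → ℤ)

/-- The exponent comparing two lifts. -/
noncomputable def expo {W : Over S} (l l' : W ⟶ T') : ↥W.left → ℤ :=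
  fun w => (h (l'.left w) - h (l.left w)) * χ (π.left (l.left w))

theorem expo_comp {W W' : Over S} (j : W' ⟶ W) (l l' : W ⟶ T') (w) :
    expo π h χ (j ≫ l) (j ≫ l') w = expo π h χ l l' (j.left w) := rfl

theorem expo_add {W : Over S} {l l' l'' : W ⟶ T'} (e : l ≫ π = l' ≫ π) (w) :
    expo π h χ l l' w + expo π h χ l' l'' w = expo π h χ l l'' w := by
  have e' : π.left (l.left w) = π.left (l'.left w) := congrArg (fun g => g.left w) e
  simp only [expo, ← e']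
  ring

variable (hloc : ∀ {W : Over S} (l l' : W ⟶ T'), l ≫ π = l' ≫ π → IsLocallyConstant (expo π h χ l l'))

/-- The twist of a morphism by the exponent of two lifts. -/
noncomputable def tw {y : 𝒳.obj} (q : y ⟶ x) (l l' : 𝒳.p.obj y ⟶ T') (e : l ≫ π = l' ≫ π) : y ⟶ x :=
  (exists_isTw hst hs q (hloc l l' e)).choose

theorem tw_spec {y : 𝒳.obj} (q : y ⟶ x) (l l' : 𝒳.p.obj y ⟶ T') (e : l ≫ π = l' ≫ π) :
    IsTw s q (expo π h χ l l') (tw hst s hs π h χ hloc q l l' e) :=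
  (exists_isTw hst hs q (hloc l l' e)).choose_spec

theorem tw_precomp {z y : 𝒳.obj} (φ : z ⟶ y) (q : y ⟶ x) (l l' : 𝒳.p.obj y ⟶ T') (e : l ≫ π = l' ≫ π) :
    φ ≫ tw hst s hs π h χ hloc q l l' e =
      tw hst s hs π h χ hloc (φ ≫ q) (𝒳.p.map φ ≫ l) (𝒳.p.map φ ≫ l') (by simp [e]) :=
  IsTw.unique hst (hloc _ _ (by simp [e])) ((tw_spec hst s hs π h χ hloc q l l' e).precomp φ)
    (tw_spec hst s hs π h χ hloc _ _ _ _)

theorem tw_self {y : 𝒳.obj} (q : y ⟶ x) (l : 𝒳.p.obj y ⟶ T') :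
    tw hst s hs π h χ hloc q l l rfl = q := by
  have h0 : expo π h χ l l = 0 := funext fun w => by simp [expo]
  have := tw_spec hst s hs π h χ hloc q l l rfl
  rw [h0] at this
  exact IsTw.unique hst (IsLocallyConstant.const 0) this (IsTw.zero hst hs q)

theorem tw_trans {y : 𝒳.obj} (q : y ⟶ x) (l l' l'' : 𝒳.p.obj y ⟶ T') (e : l ≫ π = l' ≫ π)
    (e' : l' ≫ π = l'' ≫ π) :
    tw hst s hs π h χ hloc (tw hst s hs π h χ hloc q l l' e) l' l'' e' =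
      tw hst s hs π h χ hloc q l l'' (e.trans e') := by
  have h1 := IsTw.trans hst hs (hloc l l' e) (hloc l' l'' e') (tw_spec hst s hs π h χ hloc q l l' e)
    (tw_spec hst s hs π h χ hloc _ l' l'' e')
  have h0 : (fun w => expo π h χ l l' w + expo π h χ l' l'' w) = expo π h χ l l'' :=
    funext fun w => expo_add π h χ e w
  rw [h0] at h1
  exact IsTw.unique hst (hloc _ _ (e.trans e')) h1 (tw_spec hst s hs π h χ hloc _ _ _ _)

theorem tw_inj {y : 𝒳.obj} {q q' : y ⟶ x} {l l' : 𝒳.p.obj y ⟶ T'} {e : l ≫ π = l' ≫ π}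
    (hq : tw hst s hs π h χ hloc q l l' e = tw hst s hs π h χ hloc q' l l' e) : q = q' := by
  have key : ∀ r : y ⟶ x, tw hst s hs π h χ hloc (tw hst s hs π h χ hloc r l l' e) l' l e.symm = r :=
    fun r => (tw_trans hst s hs π h χ hloc r l l' l e e.symm).trans (tw_self hst s hs π h χ hloc r l)
  rw [← key q, hq, key q']

theorem tw_congr {y : 𝒳.obj} {q q' : y ⟶ x} {l l₂ l' l₂' : 𝒳.p.obj y ⟶ T'} (hq : q = q') (hl : l = l₂)
    (hl' : l' = l₂') (e : l ≫ π = l' ≫ π) :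
    tw hst s hs π h χ hloc q l l' e = tw hst s hs π h χ hloc q' l₂ l₂' (by rw [← hl, ← hl']; exact e) := by
  subst hq hl hl'; rfl

theorem tw_eq_of_const {y : 𝒳.obj} (q : y ⟶ x) (l l' : 𝒳.p.obj y ⟶ T') (e : l ≫ π = l' ≫ π) (c : ℤ)
    (hc : ∀ w, expo π h χ l l' w = c) : tw hst s hs π h χ hloc q l l' e = q ≫ (s ^ c).hom := by
  have := (tw_spec hst s hs π h χ hloc q l l' e).loc y (𝟙 y) c fun z => hc _
  simpa using this

variable (p₀ : T ⟶ 𝒳.p.obj x) [Flat π.left] [Surjective π.left] [LocallyOfFinitePresentation π.left]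


/-- The members of the sieve. -/
abbrev Mem := (Stk.sieveCat (facSieve π)).obj

/-- The object of the datum at a member. -/
noncomputable abbrev dObj (t : Mem π) : 𝒳.obj := pull x rfl (t.obj.hom ≫ p₀)

/-- Its morphism to `x`. -/
noncomputable abbrev dHom (t : Mem π) : dObj π p₀ t ⟶ x := pullHom x rfl (t.obj.hom ≫ p₀)

/-- Its base. -/
noncomputable abbrev dEps (t : Mem π) : 𝒳.p.obj (dObj π p₀ t) ⟶ t.obj.left :=
  eqToHom (pull_base x rfl (t.obj.hom ≫ p₀))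

/-- Its chosen lift. -/
noncomputable def dLift (t : Mem π) : 𝒳.p.obj (dObj π p₀ t) ⟶ T' := dEps π p₀ t ≫ t.property.choose

theorem dLift_comp (t : Mem π) : dLift π p₀ t ≫ π = dEps π p₀ t ≫ t.obj.hom := by
  rw [dLift, Category.assoc, t.property.choose_spec]

theorem map_dHom (t : Mem π) : 𝒳.p.map (dHom π p₀ t) = dEps π p₀ t ≫ t.obj.hom ≫ p₀ :=
  (map_pullHom x rfl _).trans (by simp [dEps])

/-- The base of a transition morphism. -/
noncomputable def dBase {t t' : Mem π} (m : t ⟶ t') : 𝒳.p.obj (dObj π p₀ t) ⟶ 𝒳.p.obj (dObj π p₀ t') :=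
  dEps π p₀ t ≫ m.hom.left ≫ eqToHom (pull_base x rfl (t'.obj.hom ≫ p₀)).symm

theorem dBase_eps {t t' : Mem π} (m : t ⟶ t') : dBase π p₀ m ≫ dEps π p₀ t' = dEps π p₀ t ≫ m.hom.left := by
  simp [dBase, dEps]

theorem dBase_lift {t t' : Mem π} (m : t ⟶ t') :
    dLift π p₀ t ≫ π = (dBase π p₀ m ≫ dLift π p₀ t') ≫ π := by
  refine (dLift_comp π p₀ t).trans (Eq.trans ?_ (Category.assoc _ _ _).symm)
  rw [dLift_comp, ← Category.assoc (dBase π p₀ m), dBase_eps, Category.assoc]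
  exact congrArg (dEps π p₀ t ≫ ·) (Over.w m.hom).symm

/-- The transition morphism. -/
noncomputable def dMap {t t' : Mem π} (m : t ⟶ t') : dObj π p₀ t ⟶ dObj π p₀ t' :=
  facMap (dHom π p₀ t')
    (tw hst s hs π h χ hloc (dHom π p₀ t) (dLift π p₀ t) (dBase π p₀ m ≫ dLift π p₀ t') (dBase_lift π p₀ m))
    (dBase π p₀ m)
    (by
      rw [(tw_spec hst s hs π h χ hloc _ _ _ _).base, map_dHom, map_dHom, ← Category.assoc (dBase π p₀ m),
        dBase_eps, Category.assoc]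
      exact congrArg (dEps π p₀ t ≫ ·) ((Category.assoc _ _ _).symm.trans (congrArg (· ≫ p₀) (Over.w m.hom))))

theorem map_dMap {t t' : Mem π} (m : t ⟶ t') :
    𝒳.p.map (dMap hst s hs π h χ hloc p₀ m) = dBase π p₀ m :=
  map_facMap _ _ _ _

theorem dMap_comp {t t' : Mem π} (m : t ⟶ t') : dMap hst s hs π h χ hloc p₀ m ≫ dHom π p₀ t' =
    tw hst s hs π h χ hloc (dHom π p₀ t) (dLift π p₀ t) (dBase π p₀ m ≫ dLift π p₀ t') (dBase_lift π p₀ m) :=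
  facMap_comp _ _ _ _

theorem dBase_id (t : Mem π) : dBase π p₀ (𝟙 t) = 𝟙 _ := by
  change dEps π p₀ t ≫ 𝟙 _ ≫ _ = _
  simp [dEps]

theorem dBase_comp {t t' t'' : Mem π} (m : t ⟶ t') (n : t' ⟶ t'') :
    dBase π p₀ (m ≫ n) = dBase π p₀ m ≫ dBase π p₀ n := by
  change dEps π p₀ t ≫ (m.hom.left ≫ n.hom.left) ≫ _ = _
  simp [dBase, dEps]

/-- The twisted datum. -/
noncomputable def datum : Stk.sieveCat (facSieve π) ⥤ᵇ 𝒳 where
  toFunctor :=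
    { obj := dObj π p₀
      map := fun m => dMap hst s hs π h χ hloc p₀ m
      map_id := fun t => by
        refine hom_ext (dHom π p₀ t) ?_ ?_
        · rw [map_dMap, dBase_id, 𝒳.p.map_id]
        · rw [dMap_comp, Category.id_comp]
          exact (tw_congr hst s hs π h χ hloc rfl rfl (by rw [dBase_id, Category.id_comp]) (dBase_lift π p₀ (𝟙 t))).trans
            (tw_self hst s hs π h χ hloc _ _)
      map_comp := fun {t t' t''} m n => by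
        refine hom_ext (dHom π p₀ t'') ?_ ?_
        · rw [Functor.map_comp, map_dMap, map_dMap, map_dMap, dBase_comp]
        · rw [Category.assoc, dMap_comp, dMap_comp, tw_precomp]
          simp only [dMap_comp, map_dMap]
          rw [tw_trans]
          exact tw_congr hst s hs π h χ hloc rfl rfl (by rw [dBase_comp, Category.assoc]) (dBase_lift π p₀ (m ≫ n)) }
  w := CategoryTheory.Functor.ext (F := _ ⋙ 𝒳.p) (G := (Stk.sieveCat (facSieve π)).p)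
    (fun t => pull_base x rfl _) (fun t t' m => map_dMap hst s hs π h χ hloc p₀ m)

include hst hs hloc in
/-- If the classes are separated, the twisted datum glues to `x` itself: lifts are turned into morphisms to
`x` naturally, injectively, and compatibly with the twist. -/
theorem exists_glue (hsep : Sep 𝒳) :
    ∃ G : ∀ (y : 𝒳.obj) (q : y ⟶ x) (l : 𝒳.p.obj y ⟶ T'), (l ≫ π) ≫ p₀ = 𝒳.p.map q → (y ⟶ x),
      (∀ y q l e, 𝒳.p.map (G y q l e) = 𝒳.p.map q) ∧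
      (∀ (z y : 𝒳.obj) (φ : z ⟶ y) q l e, φ ≫ G y q l e = G z (φ ≫ q) (𝒳.p.map φ ≫ l)
        (by rw [Functor.map_comp, ← e]; simp)) ∧
      (∀ (y : 𝒳.obj) (q : y ⟶ x) (l l' : 𝒳.p.obj y ⟶ T') (e : (l ≫ π) ≫ p₀ = 𝒳.p.map q)
          (hl : l ≫ π = l' ≫ π) (e' : (l' ≫ π) ≫ p₀ = 𝒳.p.map (tw hst s hs π h χ hloc q l l' hl)),
        G y q l e = G y (tw hst s hs π h χ hloc q l l' hl) l' e') ∧
      (∀ (y : 𝒳.obj) (q q' : y ⟶ x) (l : 𝒳.p.obj y ⟶ T') (e : (l ≫ π) ≫ p₀ = 𝒳.p.map q)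
          (e' : (l ≫ π) ≫ p₀ = 𝒳.p.map q'), G y q l e = G y q' l e' → q = q') := by
  let R := facSieve π
  let I := Mem π
  let o : I → 𝒳.obj := dObj π p₀
  let qm : ∀ t : I, o t ⟶ x := dHom π p₀
  let ε : ∀ t : I, 𝒳.p.obj (o t) ⟶ t.obj.left := dEps π p₀
  let L : ∀ t : I, 𝒳.p.obj (o t) ⟶ T' := dLift π p₀
  have hL : ∀ t : I, L t ≫ π = ε t ≫ t.obj.hom := dLift_comp π p₀
  have hqm : ∀ t : I, 𝒳.p.map (qm t) = ε t ≫ t.obj.hom ≫ p₀ := map_dHom π p₀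
  let b : ∀ {t t' : I} (m : t ⟶ t'), 𝒳.p.obj (o t) ⟶ 𝒳.p.obj (o t') := fun m => dBase π p₀ m
  have hb : ∀ {t t' : I} (m : t ⟶ t'), L t ≫ π = (b m ≫ L t') ≫ π := fun m => dBase_lift π p₀ m
  let D := datum hst s hs π h χ hloc p₀
  obtain ⟨c⟩ := (isStack_iff.1 hst R (facSieve_mem π)).2 D
  let t₀ : I := ⟨Over.mk π, 𝟙 _, Category.id_comp _⟩
  let x₁ := pull x rfl p₀
  let x₁' := pull x₁ (pull_base x rfl p₀) π
  let x₂' := pull c.pt c.base π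
  obtain ⟨i₁, hi₁⟩ : ∃ i : x₁' ⟶ D.obj t₀, 𝒳.p.map i =
      eqToHom ((pull_base _ _ _).trans (D.w_obj t₀).symm) :=
    ⟨facMap (qm t₀) (pullHom x₁ (pull_base x rfl p₀) π ≫ pullHom x rfl p₀)
      (eqToHom ((pull_base _ _ _).trans (D.w_obj t₀).symm)) (by
      rw [hqm]
      simp [ε, t₀]), map_facMap _ _ _ _⟩
  obtain ⟨i₂, hi₂⟩ : ∃ i : x₂' ⟶ D.obj t₀, 𝒳.p.map i =
      eqToHom ((pull_base _ _ _).trans (D.w_obj t₀).symm) :=
    ⟨facMap (c.ι t₀) (pullHom c.pt c.base π) (eqToHom ((pull_base _ _ _).trans (D.w_obj t₀).symm)) (by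
      rw [c.map_ι]
      simp [t₀]), map_facMap _ _ _ _⟩
  have hcl : cl (𝒳 := 𝒳) x₁' (pull_base x₁ (pull_base x rfl p₀) π) = cl x₂' (pull_base c.pt c.base π) :=
    (cl_eq_iff (hy := D.w_obj t₀).2 ⟨i₁, hi₁⟩).trans (cl_eq_iff (hy := D.w_obj t₀).2 ⟨i₂, hi₂⟩).symm
  let hb₁ : 𝒳.p.obj x₁' = T' := pull_base x₁ (pull_base x rfl p₀) π
  let hb₂ : 𝒳.p.obj x₂' = T' := pull_base c.pt c.base π
  obtain ⟨i₀⟩ := hsep T T' π ⟨x₁, pull_base x rfl p₀⟩ ⟨c.pt, c.base⟩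
    ⟨x₁', hb₁⟩ ⟨x₂', hb₂⟩ (pullHom x₁ (pull_base x rfl p₀) π) (pullHom c.pt c.base π)
    (isHomLift_of_map _ hb₁ (pull_base x rfl p₀) (map_pullHom x₁ (pull_base x rfl p₀) π))
    (isHomLift_of_map _ hb₂ c.base (map_pullHom c.pt c.base π)) (Quotient.exact hcl)
  obtain ⟨hh, hhh⟩ := cl_eq_iff.1 (show cl (𝒳 := 𝒳) c.pt c.base = cl x₁ (pull_base x rfl p₀) from
    Quotient.sound ⟨i₀.symm⟩)
  let τ : ∀ t : I, o t ⟶ x := fun t => c.ι t ≫ hh ≫ pullHom x rfl p₀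
  have hτ : ∀ t : I, 𝒳.p.map (τ t) = 𝒳.p.map (qm t) := fun t => by
    rw [hqm, Functor.map_comp, Functor.map_comp, c.map_ι, hhh]
    simp [ε]
  have hτn : ∀ {t t' : I} (m : t ⟶ t'), D.map m ≫ τ t' = τ t := fun {t t'} m =>
    (Category.assoc _ _ _).symm.trans (congrArg (· ≫ hh ≫ pullHom x rfl p₀) (c.nat m))
  let mem : ∀ {W : Over S} (l : W ⟶ T') (r : W ⟶ T), l ≫ π = r → I :=
    fun {W} l r e => ⟨Over.mk r, l, e⟩
  let g : ∀ {y : 𝒳.obj} (r : 𝒳.p.obj y ⟶ T) (hr : R r), 𝒳.p.obj y ⟶ 𝒳.p.obj (o ⟨Over.mk r, hr⟩) :=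
    fun {y} r hr => eqToHom (pull_base x rfl ((Over.mk r).hom ≫ p₀)).symm
  have hgε : ∀ {y : 𝒳.obj} (r : 𝒳.p.obj y ⟶ T) (hr : R r), g r hr ≫ ε ⟨Over.mk r, hr⟩ = 𝟙 _ :=
    fun {y} r hr => by simp [g, ε]
  have he : ∀ {y : 𝒳.obj} (l : 𝒳.p.obj y ⟶ T') (r : 𝒳.p.obj y ⟶ T) (hl : l ≫ π = r),
      l ≫ π = (g r ⟨l, hl⟩ ≫ L ⟨Over.mk r, l, hl⟩) ≫ π := fun {y} l r hl => by
    refine hl.trans (Eq.trans ?_ (Category.assoc _ _ _).symm)
    rw [hL, ← Category.assoc, hgε r ⟨l, hl⟩]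
    exact (Category.id_comp r).symm
  have hF : ∀ {y : 𝒳.obj} (q : y ⟶ x) (l : 𝒳.p.obj y ⟶ T') (r : 𝒳.p.obj y ⟶ T) (hl : l ≫ π = r),
      r ≫ p₀ = 𝒳.p.map q → g r ⟨l, hl⟩ ≫ 𝒳.p.map (qm ⟨Over.mk r, l, hl⟩) =
        𝒳.p.map (tw hst s hs π h χ hloc q l (g r ⟨l, hl⟩ ≫ L ⟨Over.mk r, l, hl⟩) (he l r hl)) :=
    fun {y} q l r hl hq => by
      rw [hqm, (tw_spec hst s hs π h χ hloc _ _ _ _).base, ← Category.assoc, hgε r ⟨l, hl⟩, ← hq]
      exact Category.id_comp _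
  let F : ∀ {y : 𝒳.obj} (q : y ⟶ x) (l : 𝒳.p.obj y ⟶ T') (r : 𝒳.p.obj y ⟶ T) (hl : l ≫ π = r),
      r ≫ p₀ = 𝒳.p.map q → (y ⟶ o ⟨Over.mk r, l, hl⟩) := fun {y} q l r hl hq =>
    facMap (qm ⟨Over.mk r, l, hl⟩) (tw hst s hs π h χ hloc q l (g r ⟨l, hl⟩ ≫ L ⟨Over.mk r, l, hl⟩) (he l r hl))
      (g r ⟨l, hl⟩) (hF q l r hl hq)
  let Fτ : ∀ {y : 𝒳.obj} (q : y ⟶ x) (l : 𝒳.p.obj y ⟶ T') (r : 𝒳.p.obj y ⟶ T) (hl : l ≫ π = r),
      r ≫ p₀ = 𝒳.p.map q → (y ⟶ x) := fun {y} q l r hl hq => F q l r hl hq ≫ τ _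
  refine ⟨fun y q l e => Fτ q l (l ≫ π) rfl e, fun y q l e => ?_, fun z y φ q l e => ?_,
    fun y q l l' e hl e' => ?_, fun y q q' l e e' hG => ?_⟩
  · change 𝒳.p.map (F q l (l ≫ π) rfl e ≫ τ _) = _
    rw [Functor.map_comp, map_facMap, hτ]
    exact (hF q l (l ≫ π) rfl e).trans (tw_spec hst s hs π h χ hloc _ _ _ _).base
  · have hl' : (𝒳.p.map φ ≫ l) ≫ π = 𝒳.p.map φ ≫ l ≫ π := Category.assoc _ _ _
    have e2 : (𝒳.p.map φ ≫ l ≫ π) ≫ p₀ = 𝒳.p.map (φ ≫ q) := by rw [Category.assoc, e, Functor.map_comp]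
    let m : (⟨Over.mk (𝒳.p.map φ ≫ l ≫ π), 𝒳.p.map φ ≫ l, hl'⟩ : I) ⟶ ⟨Over.mk (l ≫ π), l, rfl⟩ :=
      ObjectProperty.homMk (Over.homMk (𝒳.p.map φ) rfl)
    have hrw : ∀ (r : 𝒳.p.obj z ⟶ T) (hr : (𝒳.p.map φ ≫ l) ≫ π = r) (hr' : r ≫ p₀ = 𝒳.p.map (φ ≫ q)),
        Fτ (φ ≫ q) (𝒳.p.map φ ≫ l) r hr hr' = Fτ (φ ≫ q) (𝒳.p.map φ ≫ l) (𝒳.p.map φ ≫ l ≫ π) hl' e2 :=
      fun r hr hr' => by obtain rfl : r = 𝒳.p.map φ ≫ l ≫ π := hr.symm.trans hl'; rfl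
    change φ ≫ F q l (l ≫ π) rfl e ≫ τ _ = Fτ (φ ≫ q) (𝒳.p.map φ ≫ l) _ rfl (by rw [Functor.map_comp, ← e]; simp)
    refine Eq.trans ?_ (hrw _ rfl (by rw [Functor.map_comp, ← e]; simp)).symm
    refine Eq.trans ?_ (congrArg (fun k => F (φ ≫ q) (𝒳.p.map φ ≫ l) _ hl' e2 ≫ k) (hτn m))
    change _ = F (φ ≫ q) (𝒳.p.map φ ≫ l) _ hl' e2 ≫ D.map m ≫ τ _
    refine (Category.assoc _ _ _).symm.trans (Eq.trans ?_ (Category.assoc _ _ _))
    refine congrArg (· ≫ τ _) ?_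
    have hgm : g (𝒳.p.map φ ≫ l ≫ π) ⟨_, hl'⟩ ≫ b m = 𝒳.p.map φ ≫ g (l ≫ π) ⟨l, rfl⟩ := by
      change g _ _ ≫ ε _ ≫ 𝒳.p.map φ ≫ eqToHom _ = _
      rw [← Category.assoc, hgε _ ⟨_, hl'⟩]
      exact Category.id_comp _
    refine hom_ext (qm _) ?_ ?_
    · rw [Functor.map_comp, Functor.map_comp, map_facMap, map_facMap]
      exact ((congrArg _ (map_dMap hst s hs π h χ hloc p₀ m)).trans hgm).symm
    · rw [Category.assoc, Category.assoc, facMap_comp]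
      change _ = F (φ ≫ q) (𝒳.p.map φ ≫ l) _ hl' e2 ≫ dMap hst s hs π h χ hloc p₀ m ≫ qm _
      rw [dMap_comp, tw_precomp, tw_precomp]
      simp only [F, map_facMap]
      erw [facMap_comp, tw_trans]
      exact tw_congr hst s hs π h χ hloc rfl rfl (by rw [← Category.assoc, ← Category.assoc, hgm]) _
  · have hrw : ∀ (r : 𝒳.p.obj y ⟶ T) (hr : l' ≫ π = r) (q' : y ⟶ x) (hr' : r ≫ p₀ = 𝒳.p.map q'),
        Fτ q' l' r hr hr' = Fτ q' l' (l ≫ π) hl.symm (by rw [hl, ← hr', ← hr]) :=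
      fun r hr q' hr' => by obtain rfl : r = l ≫ π := hr.symm.trans hl.symm; rfl
    change Fτ q l (l ≫ π) rfl e = Fτ (tw hst s hs π h χ hloc q l l' hl) l' (l' ≫ π) rfl e'
    refine Eq.trans ?_ (hrw (l' ≫ π) rfl _ e').symm
    refine congrArg (· ≫ τ _) (hom_ext (qm ⟨Over.mk (l ≫ π), l, rfl⟩) ?_ ?_)
    · exact (map_facMap _ _ _ _).trans (map_facMap _ _ _ _).symm
    · refine (facMap_comp _ _ _ _).trans (Eq.trans ?_ (facMap_comp _ _ _ _).symm)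
      exact (tw_trans hst s hs π h χ hloc q l l' _ hl (he l' (l ≫ π) hl.symm)).symm
  · have h1 : F q l (l ≫ π) rfl e = F q' l (l ≫ π) rfl e' :=
      hom_ext (τ _) ((map_facMap _ _ _ _).trans (map_facMap _ _ _ _).symm) hG
    have h2 := congrArg (· ≫ qm ⟨Over.mk (l ≫ π), l, rfl⟩) h1
    simp only [F, facMap_comp] at h2
    exact tw_inj hst s hs π h χ hloc h2

end Twist

end Groth.Agent.IsoNatClean
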