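import Groth.Agent.IsoNatClean.Twist
import Groth.Agent.ASt.DiagRep
import Groth.Agent.ASt.Props
/-!
The locus where a vertical endomorphism is the identity is closed, when the diagonal is separated.
-/

set_option autoImplicit false
set_option backward.isDefEq.respectTransparency false
set_option backward.isDefEq.respectTransparency.types false
set_option linter.unusedSectionVars false

universe u

open CategoryTheory CategoryTheory.Limits AlgebraicGeometry Opposite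

namespace Groth.Agent.IsoNatClean

open Groth.Agent.ASt Groth.Agent.RepOne

variable {S : Scheme.{u}} {𝒳 : AlgSt.Cat S} [h𝒳 : FibCat.IsFibGrpd 𝒳.p]

/-- The morphism of pairs given by two morphisms with the same image. -/
noncomputable def pairHom {a b : 𝒳.obj} (u v : a ⟶ b) (h : 𝒳.p.map u = 𝒳.p.map v) :
    (FibCat.diag (FibCat.toSelf 𝒳)).obj a ⟶ (FibCat.diag (FibCat.toSelf 𝒳)).obj b :=
  fpHomMk u v ((Category.comp_id _).trans (h.trans (Category.id_comp _).symm))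

variable (hd : AlgSt.RepByAlgSpWith (AlgSp.IsSeparatedMor ⊓ AlgSp.IsQuasiCompactMor)
  (FibCat.diag (FibCat.toSelf 𝒳)))

include hd in
/-- The fixed locus of a vertical endomorphism is closed. -/
theorem exists_closed {y : 𝒳.obj} (s : y ⟶ y) (hs : 𝒳.p.map s = 𝟙 (𝒳.p.obj y)) :
    ∃ (E : Over S) (e : E ⟶ 𝒳.p.obj y), IsClosedImmersion e.left ∧
      pullHom y rfl e ≫ s = pullHom y rfl e ∧
      ∀ (a : 𝒳.obj) (φ : a ⟶ y), φ ≫ s = φ → ∃ k, k ≫ e = 𝒳.p.map φ := by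
  let U := 𝒳.p.obj y
  let f := FibCat.diag (FibCat.toSelf 𝒳)
  let w : FibCat.overCat U ⥤ᵇ FibCat.fp (FibCat.toSelf 𝒳) (FibCat.toSelf 𝒳) :=
    BasedFunctor.comp (objFun y rfl) f
  obtain ⟨F, eF, he, hP⟩ := hd U w
  obtain ⟨hsh, hA, hsep⟩ := fibHas_of_rep (P := AlgSp.IsSeparatedMor) eF he hP.1
  let p₀ : pull y rfl (𝟙 U) ⟶ y := pullHom y rfl (𝟙 U)
  have hp₀ : 𝒳.p.map p₀ = eqToHom (pull_base y rfl (𝟙 U)) := by simp [p₀, U]
  have hp₁ : 𝒳.p.map p₀ = 𝒳.p.map (p₀ ≫ s) := by rw [Functor.map_comp, hs, Category.comp_id]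
  let φ₁ : w.obj (ov (𝟙 U)) ⟶ f.obj y := pairHom p₀ p₀ rfl
  let φ₂ : w.obj (ov (𝟙 U)) ⟶ f.obj y := pairHom p₀ (p₀ ≫ s) hp₁
  let c₁ : ClType (FibCat.fp w f) U := fpEl (𝟙 U) y rfl φ₁ hp₀
  let c₂ : ClType (FibCat.fp w f) U := fpEl (𝟙 U) y rfl φ₂ hp₀
  have key : ∀ {T : Over S} (g : T ⟶ U), clMap g c₁ = clMap g c₂ ↔ pullHom y rfl g ≫ s = pullHom y rfl g := by
    intro T g
    let sg := facMap (pullHom y rfl g) (pullHom y rfl g ≫ s) (𝟙 _)
      (by rw [Category.id_comp, Functor.map_comp, hs, Category.comp_id])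
    have hsg : sg ≫ pullHom y rfl g = pullHom y rfl g ≫ s := facMap_comp _ _ _ _
    have hm : 𝒳.p.map (𝟙 (pull y rfl g)) = 𝒳.p.map sg := (𝒳.p.map_id _).trans (map_facMap _ _ _ _).symm
    have hid : 𝒳.p.map (𝟙 (pull y rfl g)) = eqToHom rfl := 𝒳.p.map_id _
    have hv : objMap y rfl (ovHom g (Category.comp_id g)) ≫ p₀ = pullHom y rfl g := objMap_comp _ _ _
    have e1 : clMap g c₁ = fpEl g (pull y rfl g) (pull_base _ _ _) (pairHom (𝟙 _) (𝟙 _) rfl)
        (hid.trans rfl) :=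
      clMap_fpEl g (Category.comp_id g) (pullHom y rfl g)
        (fp_hom_ext (hv.trans (Category.id_comp _).symm) (hv.trans (Category.id_comp _).symm))
    have e2 : clMap g c₂ = fpEl g (pull y rfl g) (pull_base _ _ _) (pairHom (𝟙 _) sg hm)
        (hid.trans rfl) :=
      clMap_fpEl g (Category.comp_id g) (pullHom y rfl g)
        (fp_hom_ext (hv.trans (Category.id_comp _).symm)
          ((Category.assoc _ _ _).symm.trans ((congrArg (· ≫ s) hv).trans hsg.symm)))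
    rw [e1, e2, fpEl_eq_iff]
    constructor
    · rintro ⟨a, -, ha⟩
      have a1 : 𝟙 _ ≫ a = 𝟙 _ := congrArg (fun k => k.hom.fst) ha
      have a2 : 𝟙 _ ≫ a = sg := congrArg (fun k => k.hom.snd) ha
      rw [← hsg, ← a2, a1, Category.id_comp]
    · intro h
      have : sg = 𝟙 _ := hom_ext (pullHom y rfl g) hm.symm (by rw [hsg, h, Category.id_comp])
      refine ⟨𝟙 _, hid.trans rfl, fp_hom_ext (Category.comp_id _) ((Category.comp_id _).trans this.symm)⟩
  let P : AlgSp.Sp S := ⟨fib w f, hsh⟩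
  let s₁ : (AlgSp.yon S).obj U ⟶ P := ObjectProperty.homMk (uliftYonedaEquiv.{u + 1}.symm c₁)
  let s₂ : (AlgSp.yon S).obj U ⟶ P := ObjectProperty.homMk (uliftYonedaEquiv.{u + 1}.symm c₂)
  let π : P ⟶ (AlgSp.yon S).obj U := ObjectProperty.homMk (fibπ w f)
  have hπ : ∀ (c : ClType (FibCat.fp w f) U), fpHom c = 𝟙 U →
      (ObjectProperty.homMk (uliftYonedaEquiv.{u + 1}.symm c) : (AlgSp.yon S).obj U ⟶ P) ≫ π = 𝟙 _ :=
    fun c h => by
      apply ObjectProperty.hom_ext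
      refine uliftYonedaEquiv.{u + 1}.injective ?_
      refine congrArg ULift.up ?_
      change fpHom (clMap (𝟙 U) c) = 𝟙 U
      rw [clMap_id, h]
  obtain ⟨E, e, he', ⟨hl⟩⟩ := Groth.Agent.ASp.exists_isLimit_fork hA s₁ s₂
  have h₁ : s₁ ≫ π = 𝟙 _ := hπ _ (fpHom_fpEl _ _ _ _ _)
  have h₂ : s₂ ≫ π = 𝟙 _ := hπ _ (fpHom_fpEl _ _ _ _ _)
  refine ⟨E, e, hsep.2 (pullback.lift s₁ s₂ (h₁.trans h₂.symm)) _ e
    (isPullback_diagonal_of_isLimit_fork h₁ h₂ he' hl), ?_, fun a φ hφ => ?_⟩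
  · refine (key e).1 ?_
    have h : clMap (𝟙 E ≫ e) c₁ = clMap (𝟙 E ≫ e) c₂ :=
      congrArg (fun φ : (AlgSp.yon S).obj E ⟶ P => φ.hom.app (op E) ⟨𝟙 E⟩) he'
    rwa [Category.id_comp] at h
  · let g : 𝒳.p.obj a ⟶ U := 𝒳.p.map φ
    let χ := facMap φ (pullHom y rfl g) (eqToHom (pull_base y rfl g)) (by simp [g])
    have hg : pullHom y rfl g ≫ s = pullHom y rfl g := by
      rw [← facMap_comp φ (pullHom y rfl g) (eqToHom (pull_base y rfl g)) (by simp [g]), Category.assoc, hφ]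
    have hfac : (AlgSp.yon S).map g ≫ s₁ = (AlgSp.yon S).map g ≫ s₂ := by
      apply ObjectProperty.hom_ext
      refine uliftYonedaEquiv.{u + 1}.injective ?_
      change clMap (𝟙 _ ≫ g) c₁ = clMap (𝟙 _ ≫ g) c₂
      rw [Category.id_comp, (key g).2 hg]
    obtain ⟨k, hk⟩ := (AlgSp.yon S).map_surjective (Fork.IsLimit.lift hl _ hfac)
    exact ⟨k, (AlgSp.yon S).map_injective (((AlgSp.yon S).map_comp k e).trans
      ((congrArg (· ≫ (AlgSp.yon S).map e) hk).trans (Fork.IsLimit.lift_ι' hl _ hfac)))⟩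

include hd in
/-- Parallel morphisms over the same morphism agreeing after pulling back along a morphism with dense image
agree. -/
theorem ext_dense {y x : 𝒳.obj} {a b : y ⟶ x} (hb : 𝒳.p.map a = 𝒳.p.map b) {z : 𝒳.obj} (φ : z ⟶ y)
    (hj : ∀ {E : Over S} (e : E ⟶ 𝒳.p.obj y) (k : 𝒳.p.obj z ⟶ E),
      IsClosedImmersion e.left → k ≫ e = 𝒳.p.map φ → IsIso e)
    (h : φ ≫ a = φ ≫ b) : a = b := by
  let s := facMap a b (𝟙 _) (by rw [Category.id_comp, hb])
  have hs : 𝒳.p.map s = 𝟙 _ := map_facMap _ _ _ _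
  have hsa : s ≫ a = b := facMap_comp _ _ _ _
  have hφ : φ ≫ s = φ := hom_ext a (by rw [Functor.map_comp, hs, Category.comp_id])
    (by rw [Category.assoc, hsa, h])
  obtain ⟨E, e, hcl, he, hfac⟩ := exists_closed hd s hs
  obtain ⟨k, hk⟩ := hfac z φ hφ
  have := hj e k hcl hk
  have : IsIso (𝒳.p.map (pullHom y rfl e)) := by rw [map_pullHom]; infer_instance
  have := isIso_of_isIso_map (pullHom y rfl e)
  have hs1 : s = 𝟙 y := (cancel_epi (pullHom y rfl e)).1 (he.trans (Category.comp_id _).symm)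
  rw [← hsa, hs1, Category.id_comp]

end Groth.Agent.IsoNatClean
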