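import Groth.Agent.IsoNatClean.Double
import Groth.Agent.IsoNatClean.Closed
import Groth.Prelude.Def_W4c2isonaturalstkIso
import Mathlib.Algebra.Polynomial.Monic
import Mathlib.RingTheory.MvPolynomial.Basic
import Mathlib.RingTheory.Localization.Away.Basic
/-!
An algebraic stack with separated classes has no automorphisms, and conversely.
-/

set_option autoImplicit false
set_option backward.isDefEq.respectTransparency false
set_option backward.isDefEq.respectTransparency.types false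
set_option linter.unusedSectionVars false

universe u

open CategoryTheory CategoryTheory.Limits AlgebraicGeometry

namespace Groth.Agent.IsoNatClean

open Groth.Agent.ASt Groth.Agent.RepOne

theorem isIso_of_dense {A B : CommRingCat.{u}} (f : A ⟶ B) (hf : Function.Injective f.hom)
    {E : Scheme.{u}} (e : E ⟶ Spec A) [IsClosedImmersion e] (k : Spec B ⟶ E) (h : k ≫ e = Spec.map f) :
    IsIso e := by
  refine IsClosedImmersion.isIso_of_injective_of_isAffine ?_
  have h1 : Function.Injective (Spec.map f).appTop.hom := by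
    have h2 : (Scheme.ΓSpecIso A).hom ≫ f ≫ (Scheme.ΓSpecIso B).inv = (Spec.map f).appTop := by
      rw [← Scheme.ΓSpecIso_naturality_assoc, Iso.hom_inv_id, Category.comp_id]
    rw [← h2, CommRingCat.hom_comp, CommRingCat.hom_comp]
    exact (((Scheme.ΓSpecIso B).commRingCatIsoToRingEquiv.symm.injective).comp hf).comp
      (Scheme.ΓSpecIso A).commRingCatIsoToRingEquiv.injective
  rw [← h, Scheme.Hom.comp_appTop, CommRingCat.hom_comp] at h1
  exact Function.Injective.of_comp h1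

theorem mem_basicOpen_of_isUnit {A B : CommRingCat.{u}} (g : A ⟶ B) {a : A} (ha : IsUnit (g.hom a))
    (p : Spec B) : (Spec.map g) p ∈ PrimeSpectrum.basicOpen a :=
  fun hp => p.2.ne_top (p.asIdeal.eq_top_of_isUnit_mem hp ha)

variable {S : Scheme.{u}} {𝒳 : AlgSt.Cat S} [h𝒳 : FibCat.IsFibGrpd 𝒳.p]
  (hst : Stk.IsStack (AlgSp.J S) 𝒳)
  (hd : AlgSt.RepByAlgSpWith (AlgSp.IsSeparatedMor ⊓ AlgSp.IsQuasiCompactMor)
    (FibCat.diag (FibCat.toSelf 𝒳)))

include hst hd in
/-- Separated classes kill automorphisms over an affine base: the ring-theoretic core. -/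
theorem eq_id_of_rings (hsep : Sep 𝒳) {x : 𝒳.obj} (s : Aut x) (hs : 𝒳.p.map s.hom = 𝟙 (𝒳.p.obj x))
    {R P L : CommRingCat.{u}} (e : (𝒳.p.obj x).left ≅ Spec R) (C : R ⟶ P) (f₁ f₂ : P ⟶ L) (ev : L ⟶ R)
    (hC : C ≫ f₁ ≫ ev = 𝟙 R) (hf : f₁ ≫ ev = f₂ ≫ ev) (a₁ a₂ : P) (ha : a₁ * a₂ = 0)
    {M : CommRingCat.{u}} (j : L ⟶ M) (hj : Function.Injective j.hom)
    (hu₁ : IsUnit (j.hom (f₁.hom a₁))) (hu₂ : IsUnit (j.hom (f₂.hom a₂))) : s.hom = 𝟙 x := by
  let B := 𝒳.p.obj x
  let Z : Over S := Over.mk ((Spec.map C ≫ e.inv) ≫ B.hom)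
  let zT : Z ⟶ B := Over.homMk (Spec.map C ≫ e.inv)
  let D₁ : Z.left.Opens := PrimeSpectrum.basicOpen a₁
  let D₂ : Z.left.Opens := PrimeSpectrum.basicOpen a₂
  have hD : D₁ ⊓ D₂ = ⊥ := by
    refine (PrimeSpectrum.basicOpen_mul a₁ a₂).symm.trans ?_
    rw [ha, PrimeSpectrum.basicOpen_zero]
  let y := pull x rfl zT
  let hy : 𝒳.p.obj y = Z := pull_base x rfl zT
  let q : y ⟶ x := pullHom x rfl zT
  have hq : 𝒳.p.map q = eqToHom hy ≫ zT :=
    (map_pullHom x rfl zT).trans (congrArg (eqToHom hy ≫ ·) (Category.comp_id zT))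
  obtain ⟨a, b, b', ha', hb, hb', h1, h2, h3⟩ := exists_doubled hst s hs hsep zT D₁ D₂ hD hy q hq
  let z₀ : B ⟶ Z := Over.homMk (e.hom ≫ Spec.map (f₁ ≫ ev)) (by
    change (e.hom ≫ Spec.map (f₁ ≫ ev)) ≫ (Spec.map C ≫ e.inv) ≫ B.hom = B.hom
    simp only [Category.assoc]
    rw [← Spec.map_comp_assoc, hC]
    simp)
  have hz₀ : z₀ ≫ zT = 𝟙 B := by
    apply Over.OverMorphism.ext
    change (e.hom ≫ Spec.map (f₁ ≫ ev)) ≫ Spec.map C ≫ e.inv = 𝟙 _
    rw [Category.assoc, ← Spec.map_comp_assoc, hC, Spec.map_id, Category.id_comp, Iso.hom_inv_id]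
  let ω : x ⟶ y := facMap q (𝟙 x) (z₀ ≫ eqToHom hy.symm) (by
    rw [hq, 𝒳.p.map_id, Category.assoc, eqToHom_trans_assoc, eqToHom_refl, Category.id_comp, hz₀])
  have hω : ω ≫ q = 𝟙 x := facMap_comp _ _ _ _
  suffices key : ∀ (f : P ⟶ L) (d : P), IsUnit (j.hom (f.hom d)) → f ≫ ev = f₁ ≫ ev → ∀ c c' : y ⟶ x,
      𝒳.p.map c = 𝒳.p.map q → 𝒳.p.map c' = 𝒳.p.map q →
      (∀ (z : 𝒳.obj) (φ : z ⟶ y), (∀ w, (eqToHom hy).left ((𝒳.p.map φ).left w) ∈ PrimeSpectrum.basicOpen d) →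
        φ ≫ c = φ ≫ c') → ω ≫ c = ω ≫ c' from
    h3 ω hω ((key f₁ a₁ hu₁ rfl a b ha' hb h1).symm.trans (key f₂ a₂ hu₂ hf.symm a b' ha' hb' h2))
  intro f d hdu hfev c c' hc hc' hcc
  let A : Over S := Over.mk (Spec.map f ≫ Z.hom)
  let g : A ⟶ Z := Over.homMk (Spec.map f)
  let yA := pull y hy g
  let ψ : yA ⟶ y := pullHom y hy g
  have hψ : 𝒳.p.map ψ = eqToHom (pull_base y hy g) ≫ g ≫ eqToHom hy.symm := map_pullHom _ _ _
  let A' : Over S := Over.mk (Spec.map j ≫ A.hom)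
  let g' : A' ⟶ A := Over.homMk (Spec.map j)
  let φ := pullHom yA (pull_base y hy g) g'
  have hline : ψ ≫ c = ψ ≫ c' := by
    refine ext_dense hd (by rw [Functor.map_comp, Functor.map_comp, hc, hc']) φ ?_ ?_
    · intro E e' k he' hk
      have he'' : IsClosedImmersion (e' ≫ eqToHom (pull_base y hy g)).left := by
        change IsClosedImmersion (e'.left ≫ (eqToHom (pull_base y hy g)).left)
        infer_instance
      have hk' : (eqToHom (pull_base yA (pull_base y hy g) g').symm ≫ k) ≫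
          e' ≫ eqToHom (pull_base y hy g) = g' := by
        rw [Category.assoc, reassoc_of% hk]
        simp [φ]
      have := isIso_of_dense j hj (e' ≫ eqToHom (pull_base y hy g)).left
        (eqToHom (pull_base yA (pull_base y hy g) g').symm ≫ k).left (congrArg (fun m => m.left) hk')
      have : IsIso (e' ≫ eqToHom (pull_base y hy g)) :=
        have : IsIso ((Over.forget S).map (e' ≫ eqToHom (pull_base y hy g))) := this
        isIso_of_reflects_iso _ (Over.forget S)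
      exact IsIso.of_isIso_comp_right e' (eqToHom (pull_base y hy g))
    · refine (Category.assoc _ _ _).symm.trans ((hcc _ (φ ≫ ψ) fun w => ?_).trans (Category.assoc _ _ _))
      have hmap : 𝒳.p.map (φ ≫ ψ) ≫ eqToHom hy = eqToHom (pull_base yA (pull_base y hy g) g') ≫ g' ≫ g := by
        rw [Functor.map_comp, hψ]
        simp [φ, yA]
      have hw := congrArg (fun m => m.left w) hmap
      refine (show _ = _ from hw) ▸ ?_
      change (Spec.map f) ((Spec.map j) _) ∈ _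
      rw [← Scheme.Hom.comp_apply, ← Spec.map_comp]
      exact mem_basicOpen_of_isUnit (f ≫ j) hdu _
  let zA : B ⟶ A := Over.homMk (e.hom ≫ Spec.map ev) (by
    change (e.hom ≫ Spec.map ev) ≫ Spec.map f ≫ Z.hom = B.hom
    rw [Category.assoc, ← Spec.map_comp_assoc, hfev]
    exact (Category.assoc _ _ _).symm.trans (Over.w z₀))
  have hzA : zA ≫ g = z₀ := by
    apply Over.OverMorphism.ext
    change (e.hom ≫ Spec.map ev) ≫ Spec.map f = e.hom ≫ Spec.map (f₁ ≫ ev)
    rw [Category.assoc, ← Spec.map_comp, hfev]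
  have hfac : facMap ψ ω (zA ≫ eqToHom (pull_base y hy g).symm) (by
      rw [hψ, show 𝒳.p.map ω = _ from map_facMap _ _ _ _, ← hzA]
      simp) ≫ ψ = ω := facMap_comp _ _ _ _
  exact (congrArg (· ≫ c) hfac).symm.trans (((Category.assoc _ _ _).trans
    ((congrArg _ hline).trans (Category.assoc _ _ _).symm)).trans (congrArg (· ≫ c') hfac))

include hst hd in
/-- Separated classes kill all automorphisms. -/
theorem eq_id_of_sep (hsep : Sep 𝒳) {x : 𝒳.obj} (s : x ⟶ x) (hs : 𝒳.p.map s = 𝟙 (𝒳.p.obj x)) : s = 𝟙 x := by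
  refine ext_local hst (by rw [hs, 𝒳.p.map_id]) fun w => ?_
  obtain ⟨V, hVa, hwV, -⟩ := exists_isAffineOpen_mem_and_subset (U := ⊤) (show w ∈ (⊤ : (𝒳.p.obj x).left.Opens) from trivial)
  refine ⟨V, hwV, fun z φ hφ => ?_⟩
  let BV : Over S := Over.mk (V.ι ≫ (𝒳.p.obj x).hom)
  let g : BV ⟶ 𝒳.p.obj x := Over.homMk V.ι
  let xV := pull x rfl g
  let q : xV ⟶ x := pullHom x rfl g
  let sV := facMap q (q ≫ s) (𝟙 _) (by rw [Category.id_comp, Functor.map_comp, hs, Category.comp_id])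
  have hsV : sV ≫ q = q ≫ s := facMap_comp _ _ _ _
  have hsV' : 𝒳.p.map sV = 𝟙 _ := map_facMap _ _ _ _
  have : IsIso sV := isIso_of_vert sV (e := rfl) hsV'
  have haff : IsAffine (𝒳.p.obj xV).left := by
    rw [show 𝒳.p.obj xV = BV from pull_base x rfl g]
    exact hVa
  let R : CommRingCat.{u} := Γ((𝒳.p.obj xV).left, ⊤)
  let P : CommRingCat.{u} :=
    .of (MvPolynomial (Fin 2) R ⧸ Ideal.span {(MvPolynomial.X 0 * MvPolynomial.X 1 : MvPolynomial (Fin 2) R)})
  let L : CommRingCat.{u} := .of (Polynomial R)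
  let π : MvPolynomial (Fin 2) R →+* P := Ideal.Quotient.mk _
  let F : ∀ v : Fin 2 → Polynomial R, v 0 * v 1 = 0 → (P ⟶ L) := fun v hv =>
    CommRingCat.ofHom (Ideal.Quotient.lift _ (MvPolynomial.eval₂Hom Polynomial.C v) fun p hp => by
      obtain ⟨r, rfl⟩ := Ideal.mem_span_singleton'.1 hp
      simp [hv])
  let f₁ := F ![Polynomial.X, 0] (by simp)
  let f₂ := F ![0, Polynomial.X] (by simp)
  let C : R ⟶ P := CommRingCat.ofHom (π.comp MvPolynomial.C)
  let ev : L ⟶ R := CommRingCat.ofHom (Polynomial.evalRingHom 0)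
  let j : L ⟶ CommRingCat.of (Localization.Away (Polynomial.X : Polynomial R)) :=
    CommRingCat.ofHom (algebraMap _ _)
  have hj : Function.Injective j.hom := by
    refine IsLocalization.injective (M := Submonoid.powers (Polynomial.X : Polynomial R))
      (Localization.Away (Polynomial.X : Polynomial R)) ?_
    rw [Submonoid.powers_le]
    exact (Polynomial.monic_X).mem_nonZeroDivisors
  have hu : IsUnit (j.hom (Polynomial.X : Polynomial R)) :=
    IsLocalization.Away.algebraMap_isUnit (Polynomial.X : Polynomial R)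
  have := eq_id_of_rings hst hd hsep (asIso sV) hsV' (𝒳.p.obj xV).left.isoSpec C f₁ f₂ ev
    (by
      ext r
      change Polynomial.eval 0 (MvPolynomial.eval₂Hom Polynomial.C ![Polynomial.X, 0] (MvPolynomial.C r)) = r
      simp)
    (by
      refine CommRingCat.hom_ext (Ideal.Quotient.ringHom_ext (MvPolynomial.ringHom_ext (fun r => ?_) fun i => ?_))
      · change Polynomial.eval 0 (MvPolynomial.eval₂Hom Polynomial.C ![Polynomial.X, 0] (MvPolynomial.C r)) =
          Polynomial.eval 0 (MvPolynomial.eval₂Hom Polynomial.C ![0, Polynomial.X] (MvPolynomial.C r))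
        simp
      · change Polynomial.eval 0 (MvPolynomial.eval₂Hom Polynomial.C ![Polynomial.X, 0] (MvPolynomial.X i)) =
          Polynomial.eval 0 (MvPolynomial.eval₂Hom Polynomial.C ![0, Polynomial.X] (MvPolynomial.X i))
        fin_cases i <;> simp)
    (π (MvPolynomial.X 0)) (π (MvPolynomial.X 1))
    (by rw [← map_mul]; exact Ideal.Quotient.eq_zero_iff_mem.2 (Ideal.subset_span rfl)) j hj
    (show IsUnit (j.hom (MvPolynomial.eval₂Hom Polynomial.C ![Polynomial.X, 0] (MvPolynomial.X 0))) by simpa using hu)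
    (show IsUnit (j.hom (MvPolynomial.eval₂Hom Polynomial.C ![0, Polynomial.X] (MvPolynomial.X 1))) by simpa using hu)
  have hid : sV = 𝟙 xV := this
  have hr : Set.range (𝒳.p.map φ).left ⊆ Set.range V.ι := by
    rintro _ ⟨a, rfl⟩
    exact ⟨⟨_, hφ a⟩, rfl⟩
  let l : 𝒳.p.obj z ⟶ BV := Over.homMk (IsOpenImmersion.lift V.ι (𝒳.p.map φ).left hr) (by
    change _ ≫ V.ι ≫ _ = _
    rw [IsOpenImmersion.lift_fac_assoc]
    exact Over.w (𝒳.p.map φ))
  have hl : l ≫ g = 𝒳.p.map φ := Over.OverMorphism.ext (IsOpenImmersion.lift_fac _ _ _)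
  rw [← facMap_comp q φ (l ≫ eqToHom (pull_base x rfl g).symm) (by simp [q, hl]), Category.assoc, ← hsV, hid]
  simp

include hst hd in
theorem isClean_of_sep (hsep : Sep 𝒳) (η : 𝒳.obj) : IsoNat.IsClean η :=
  fun _ _ s hs => eq_id_of_sep hst hd hsep s hs

theorem eq_of_isClean {η : 𝒳.obj} (hη : IsoNat.IsClean η) {z : 𝒳.obj} {a b : z ⟶ η}
    (h : 𝒳.p.map a = 𝒳.p.map b) : a = b := by
  have := hη z a (facMap a b (𝟙 _) (by rw [Category.id_comp, h])) (map_facMap _ _ _ _)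
  rw [← facMap_comp a b (𝟙 _) (by rw [Category.id_comp, h]), this, Category.id_comp]

include hst in
theorem sep_of_isClean (hcl : ∀ η : 𝒳.obj, IsoNat.IsClean η) : Sep 𝒳 := by
  intro T T' π _ _ _ x₁ x₂ x₁' x₂' a₁ a₂ ha₁ ha₂ ⟨i⟩
  have hi := i.hom.2
  have hm₁ := IsHomLift.fac' 𝒳.p π a₁
  have hm₂ := IsHomLift.fac' 𝒳.p π a₂
  let A := objFun (𝒳 := 𝒳) x₁.1 x₁.2
  let R := facSieve π
  let c := objCone R x₁.1 x₁.2
  have key : ∀ t : (Stk.sieveCat R).obj, ∃ τ : ((Stk.resSieve R 𝒳).obj A).obj t ⟶ x₂.1,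
      𝒳.p.map τ = eqToHom (pull_base x₁.1 x₁.2 t.obj.hom) ≫ t.obj.hom ≫ eqToHom x₂.2.symm := by
    intro t
    obtain ⟨l, hl⟩ := t.property
    refine ⟨facMap a₁ (pullHom x₁.1 x₁.2 t.obj.hom) (eqToHom (pull_base x₁.1 x₁.2 t.obj.hom) ≫ l ≫ eqToHom x₁'.2.symm)
      (by rw [hm₁, map_pullHom]; simp [reassoc_of% hl]) ≫ i.hom.1 ≫ a₂, ?_⟩
    rw [Functor.map_comp, Functor.map_comp, map_facMap, hm₂, map_of_isHomLift_id (R := T') i.hom.1]
    simp [reassoc_of% hl]
  choose τ hτ using key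
  let c' : SCone ((Stk.resSieve R 𝒳).obj A) :=
    { pt := x₂.1
      base := x₂.2
      ι := τ
      map_ι := hτ
      nat := fun {t t'} m => eq_of_isClean (hcl x₂.1) (by
        rw [Functor.map_comp, hτ, hτ, map_w ((Stk.resSieve R 𝒳).obj A) m]
        have e : m.hom.left ≫ t'.obj.hom = t.obj.hom := Over.w m.hom
        simp [reassoc_of% e]
        exact congrArg (eqToHom _ ≫ ·) ((Category.assoc _ _ _).symm.trans (congrArg (· ≫ eqToHom _) e))) }
  obtain ⟨k, ⟨hk, -⟩, -⟩ := (isStack_iff.1 hst R (facSieve_mem π)).1 _ c c'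
  exact Quotient.exact (cl_eq_iff (hx := x₁.2) (hy := x₂.2) |>.2 ⟨k, hk⟩)

include hst hd in
theorem forall_isClean_iff_sep : (∀ η : 𝒳.obj, IsoNat.IsClean η) ↔ Sep 𝒳 :=
  ⟨sep_of_isClean hst, fun h η => isClean_of_sep hst hd h η⟩

end Groth.Agent.IsoNatClean
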