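import Groth.Agent.IsoNatClean.Glue
import Mathlib.AlgebraicGeometry.Limits
/-!
The doubled scheme: separated classes force automorphisms to be read off on a union of two lines.
-/

set_option autoImplicit false
set_option backward.isDefEq.respectTransparency false
set_option backward.isDefEq.respectTransparency.types false
set_option linter.unusedSectionVars false

universe u

open CategoryTheory CategoryTheory.Limits AlgebraicGeometry

namespace Groth.Agent.IsoNatClean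

open Groth.Agent.ASt Groth.Agent.RepOne

/-- The index of the summand. -/
noncomputable def sheet (X Y : Scheme.{u}) : ↥(X ⨿ Y : Scheme.{u}) → ℤ :=
  fun z => Sum.elim (fun _ => 0) (fun _ => 1) ((coprodMk X Y).symm z)

theorem sheet_inl {X Y : Scheme.{u}} (a : X) : sheet X Y ((coprod.inl : X ⟶ X ⨿ Y) a) = 0 := by
  rw [sheet, ← coprodMk_inl, Homeomorph.symm_apply_apply]; rfl

theorem sheet_inr {X Y : Scheme.{u}} (a : Y) : sheet X Y ((coprod.inr : Y ⟶ X ⨿ Y) a) = 1 := by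
  rw [sheet, ← coprodMk_inr, Homeomorph.symm_apply_apply]; rfl

theorem sheet_cases {X Y : Scheme.{u}} (z : ↥(X ⨿ Y : Scheme.{u})) :
    (∃ a, (coprod.inl : X ⟶ X ⨿ Y) a = z) ∨ ∃ b, (coprod.inr : Y ⟶ X ⨿ Y) b = z := by
  obtain ⟨a | b, rfl⟩ := (coprodMk X Y).surjective z
  · exact .inl ⟨a, (coprodMk_inl X Y a).symm⟩
  · exact .inr ⟨b, (coprodMk_inr X Y b).symm⟩

theorem isLocallyConstant_sheet (X Y : Scheme.{u}) : IsLocallyConstant (sheet X Y) := by
  refine IsLocallyConstant.comp_continuous ?_ (coprodMk X Y).symm.continuous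
  exact (IsLocallyConstant.iff_continuous _).2 (continuous_const.sumElim continuous_const)

theorem pushout_eq_iff {Z : Scheme.{u}} (W : Z.Opens) {a b : Z}
    (h : (pushout.inl W.ι W.ι) a = (pushout.inr W.ι W.ι) b) : a = b ∧ a ∈ W := by
  obtain ⟨k, fi, fj, w, h1, h2⟩ :=
    (Scheme.IsLocallyDirected.ι_eq_ι_iff (F := span W.ι W.ι) (i := WalkingSpan.left) (j := WalkingSpan.right)).1 h
  rcases k with _ | _ | _
  · obtain rfl : fi = WalkingSpan.Hom.fst := Subsingleton.elim _ _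
    obtain rfl : fj = WalkingSpan.Hom.snd := Subsingleton.elim _ _
    simp only [span_map_fst, span_map_snd] at h1 h2
    subst h1
    exact ⟨h2, w.2⟩
  · exact nomatch fj
  · exact nomatch fi

theorem flat_coprod_desc {X Y Z : Scheme.{u}} (f : X ⟶ Z) (g : Y ⟶ Z) [Flat f] [Flat g]
    [LocallyOfFinitePresentation f] [LocallyOfFinitePresentation g] :
    Flat (coprod.desc f g) ∧ LocallyOfFinitePresentation (coprod.desc f g) := by
  constructor <;> refine (IsZariskiLocalAtSource.iff_of_openCover (coprodOpenCover.{u, 0} X Y)).2 ?_ <;>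
    rintro (⟨⟩ | ⟨⟩) <;> simp [coprodOpenCover] <;> assumption

variable {S : Scheme.{u}} {𝒳 : AlgSt.Cat S} [h𝒳 : FibCat.IsFibGrpd 𝒳.p]
  (hst : Stk.IsStack (AlgSp.J S) 𝒳) {x : 𝒳.obj} (s : Aut x) (hs : 𝒳.p.map s.hom = 𝟙 (𝒳.p.obj x))

include hst hs in
/-- On a scheme with two disjoint opens there are three morphisms to `x`, the first agreeing with the others
on either open, and the last two agreeing along a section only if the automorphism is trivial. -/
theorem exists_doubled (hsep : Sep 𝒳) {Z : Over S} (zT : Z ⟶ 𝒳.p.obj x) (D₁ D₂ : Z.left.Opens)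
    (hD : D₁ ⊓ D₂ = ⊥) {y : 𝒳.obj} (hy : 𝒳.p.obj y = Z) (q : y ⟶ x) (hq : 𝒳.p.map q = eqToHom hy ≫ zT) :
    ∃ a b b' : y ⟶ x, 𝒳.p.map a = 𝒳.p.map q ∧ 𝒳.p.map b = 𝒳.p.map q ∧ 𝒳.p.map b' = 𝒳.p.map q ∧
      (∀ (z : 𝒳.obj) (φ : z ⟶ y), (∀ w, (eqToHom hy).left ((𝒳.p.map φ).left w) ∈ D₁) → φ ≫ a = φ ≫ b) ∧
      (∀ (z : 𝒳.obj) (φ : z ⟶ y), (∀ w, (eqToHom hy).left ((𝒳.p.map φ).left w) ∈ D₂) → φ ≫ a = φ ≫ b') ∧
      (∀ ω : x ⟶ y, ω ≫ q = 𝟙 x → ω ≫ b = ω ≫ b' → s.hom = 𝟙 x) := by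
  classical
  let W : Z.left.Opens := D₁ ⊔ D₂
  let u := pushout.inl W.ι W.ι
  let v := pushout.inr W.ι W.ι
  let ps : pushout W.ι W.ι ⟶ (𝒳.p.obj x).left := pushout.desc zT.left zT.left rfl
  let T : Over S := Over.mk (ps ≫ (𝒳.p.obj x).hom)
  let p₀ : T ⟶ 𝒳.p.obj x := Over.homMk ps
  let T' : Over S := Over.mk (coprod.desc u v ≫ T.hom)
  let π : T' ⟶ T := Over.homMk (coprod.desc u v)
  have huT : u ≫ T.hom = Z.hom := by
    change u ≫ ps ≫ _ = _
    rw [pushout.inl_desc_assoc]; exact Over.w zT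
  have hvT : v ≫ T.hom = Z.hom := by
    change v ≫ ps ≫ _ = _
    rw [pushout.inr_desc_assoc]; exact Over.w zT
  let i₁ : Z ⟶ T' := Over.homMk coprod.inl (by
    change _ ≫ coprod.desc u v ≫ T.hom = _
    rw [coprod.inl_desc_assoc, huT])
  let i₂ : Z ⟶ T' := Over.homMk coprod.inr (by
    change _ ≫ coprod.desc u v ≫ T.hom = _
    rw [coprod.inr_desc_assoc, hvT])
  have hπu : ∀ a : Z.left, π.left ((coprod.inl : Z.left ⟶ Z.left ⨿ Z.left) a) = u a := fun a =>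
    congrArg (fun f => f a) (coprod.inl_desc u v)
  have hπv : ∀ a : Z.left, π.left ((coprod.inr : Z.left ⟶ Z.left ⨿ Z.left) a) = v a := fun a =>
    congrArg (fun f => f a) (coprod.inr_desc u v)
  have huv : ∀ a : Z.left, a ∈ W → u a = v a := fun a ha =>
    congrArg (fun f => f ⟨a, ha⟩) (pushout.condition (f := W.ι) (g := W.ι))
  have hu : Function.Injective u := u.isOpenEmbedding.injective
  have hdisj : ∀ a : Z.left, a ∈ D₁ → a ∈ D₂ → False := fun a h1 h2 => by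
    have : a ∈ (D₁ ⊓ D₂ : Z.left.Opens) := ⟨h1, h2⟩
    rw [hD] at this
    exact this
  let χ : ↥T.left → ℤ := fun t => if t ∈ u '' (D₂ : Set Z.left) then 1 else 0
  let h : ↥T'.left → ℤ := sheet Z.left Z.left
  have hloc : ∀ {V : Over S} (l l' : V ⟶ T'), l ≫ π = l' ≫ π → IsLocallyConstant (expo π h χ l l') := by
    intro V l l' e
    let d : ↥V.left → ℤ := fun w => h (l'.left w) - h (l.left w)
    have hd : IsLocallyConstant d := ((isLocallyConstant_sheet _ _).comp_continuous l'.left.continuous).sub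
      ((isLocallyConstant_sheet _ _).comp_continuous l.left.continuous)
    refine (IsLocallyConstant.iff_exists_open _).2 fun w => ?_
    by_cases hw : d w = 0
    · refine ⟨d ⁻¹' {d w}, hd.isOpen_fiber _, rfl, fun w' hw' => ?_⟩
      change d w' * _ = d w * _
      rw [show d w' = d w from hw', hw, zero_mul, zero_mul]
    have e' : π.left (l.left w) = π.left (l'.left w) := congrArg (fun g => g.left w) e
    have key : ∃ a, a ∈ W ∧ π.left (l.left w) = u a := by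
      rcases sheet_cases (l.left w) with ⟨a, ha⟩ | ⟨a, ha⟩ <;> rcases sheet_cases (l'.left w) with ⟨b, hb⟩ | ⟨b, hb⟩
      · exact absurd (show d w = 0 by simp only [d, h, ← ha, ← hb, sheet_inl]; rfl) hw
      · rw [← ha, ← hb, hπu, hπv] at e'
        exact ⟨a, (pushout_eq_iff W e').2, by rw [← ha, hπu]⟩
      · rw [← ha, ← hb, hπu, hπv] at e'
        obtain ⟨rfl, hb'⟩ := pushout_eq_iff W e'.symm
        exact ⟨b, hb', by rw [← ha, hπv, ← huv b hb']⟩
      · exact absurd (show d w = 0 by simp only [d, h, ← ha, ← hb, sheet_inr]; rfl) hw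
    obtain ⟨a, ha, ha'⟩ := key
    have hO : ∀ D : Z.left.Opens, IsOpen ((fun w' => π.left (l.left w')) ⁻¹' (u '' (D : Set Z.left))) := fun D =>
      (u.isOpenEmbedding.isOpenMap _ D.2).preimage (π.left.continuous.comp l.left.continuous)
    rcases ha with ha | ha
    · refine ⟨d ⁻¹' {d w} ∩ _, (hd.isOpen_fiber _).inter (hO D₁), ⟨rfl, a, ha, ha'.symm⟩, fun w' hw' => ?_⟩
      have h0 : ∀ a, a ∈ D₁ → χ (u a) = 0 := fun a ha => if_neg fun ⟨b, hb, e⟩ => hdisj a ha (hu e ▸ hb)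
      obtain ⟨hw1, a', ha1, ha2⟩ := hw'
      change d w' * χ _ = d w * χ _
      rw [ha', show π.left (l.left w') = u a' from ha2.symm, h0 a ha, h0 a' ha1, mul_zero, mul_zero]
    · refine ⟨d ⁻¹' {d w} ∩ _, (hd.isOpen_fiber _).inter (hO D₂), ⟨rfl, a, ha, ha'.symm⟩, fun w' hw' => ?_⟩
      obtain ⟨hw1, hw2⟩ := hw'
      change d w' * χ _ = d w * χ _
      rw [show d w' = d w from hw1, show χ (π.left (l.left w')) = 1 from if_pos hw2,
        show χ (π.left (l.left w)) = 1 from if_pos ⟨a, ha, ha'.symm⟩]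
  have hflat := flat_coprod_desc u v
  haveI : Flat π.left := hflat.1
  haveI : LocallyOfFinitePresentation π.left := hflat.2
  haveI : Surjective π.left := ⟨fun t => by
    obtain ⟨k, t', rfl⟩ := Scheme.IsLocallyDirected.ι_jointly_surjective (span W.ι W.ι) t
    rcases k with _ | _ | _
    · refine ⟨(coprod.inl : Z.left ⟶ Z.left ⨿ Z.left) (W.ι t'), (hπu _).trans ?_⟩
      exact congrArg (fun f => f t') (colimit.w (span W.ι W.ι) WalkingSpan.Hom.fst)
    · exact ⟨_, hπu t'⟩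
    · exact ⟨_, hπv t'⟩⟩
  obtain ⟨G, hGb, hGn, hGt, hGi⟩ := exists_glue hst s hs π h χ hloc p₀ hsep
  let l₁ : 𝒳.p.obj y ⟶ T' := eqToHom hy ≫ i₁
  let l₂ : 𝒳.p.obj y ⟶ T' := eqToHom hy ≫ i₂
  have hi₁ : i₁ ≫ π ≫ p₀ = zT := by
    apply Over.OverMorphism.ext
    change coprod.inl ≫ coprod.desc u v ≫ ps = _
    rw [coprod.inl_desc_assoc, pushout.inl_desc]
  have hi₂ : i₂ ≫ π ≫ p₀ = zT := by
    apply Over.OverMorphism.ext
    change coprod.inr ≫ coprod.desc u v ≫ ps = _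
    rw [coprod.inr_desc_assoc, pushout.inr_desc]
  have e₁ : (l₁ ≫ π) ≫ p₀ = 𝒳.p.map q := by simp only [l₁, Category.assoc, hi₁, hq]
  have e₂ : (l₂ ≫ π) ≫ p₀ = 𝒳.p.map q := by simp only [l₂, Category.assoc, hi₂, hq]
  have hqs : 𝒳.p.map (q ≫ s.hom) = 𝒳.p.map q := by rw [Functor.map_comp, hs, Category.comp_id]
  have e₂' : (l₂ ≫ π) ≫ p₀ = 𝒳.p.map (q ≫ s.hom) := by rw [e₂, hqs]
  have key : ∀ (z : 𝒳.obj) (φ : z ⟶ y), (∀ w, (eqToHom hy).left ((𝒳.p.map φ).left w) ∈ W) →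
      (𝒳.p.map φ ≫ l₁) ≫ π = (𝒳.p.map φ ≫ l₂) ≫ π := by
    intro z φ hφ
    apply Over.OverMorphism.ext
    change ((𝒳.p.map φ).left ≫ (eqToHom hy).left ≫ coprod.inl) ≫ coprod.desc u v =
      ((𝒳.p.map φ).left ≫ (eqToHom hy).left ≫ coprod.inr) ≫ coprod.desc u v
    simp only [Category.assoc, coprod.inl_desc, coprod.inr_desc]
    let g := (𝒳.p.map φ).left ≫ (eqToHom hy).left
    have hg : Set.range g ⊆ Set.range W.ι := by
      rintro _ ⟨w, rfl⟩
      exact ⟨⟨_, hφ w⟩, rfl⟩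
    simp only [← Category.assoc]
    change g ≫ u = g ≫ v
    rw [← IsOpenImmersion.lift_fac W.ι g hg, Category.assoc, Category.assoc, pushout.condition]
  have hexp : ∀ (z : 𝒳.obj) (φ : z ⟶ y) (c : ℤ),
      (∀ w, χ (u ((eqToHom hy).left ((𝒳.p.map φ).left w))) = c) →
      ∀ w, expo π h χ (𝒳.p.map φ ≫ l₁) (𝒳.p.map φ ≫ l₂) w = c := fun z φ c hc w => by
    change (sheet _ _ ((coprod.inr : Z.left ⟶ Z.left ⨿ Z.left) _) - sheet _ _ ((coprod.inl : Z.left ⟶ Z.left ⨿ Z.left) _)) *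
      χ (π.left ((coprod.inl : Z.left ⟶ Z.left ⨿ Z.left) _)) = c
    rw [sheet_inr, sheet_inl, hπu, sub_zero, one_mul]
    exact hc w
  refine ⟨G y q l₁ e₁, G y q l₂ e₂, G y (q ≫ s.hom) l₂ e₂', hGb _ _ _ _, hGb _ _ _ _, (hGb _ _ _ _).trans hqs,
    fun z φ hφ => ?_, fun z φ hφ => ?_, fun ω hω hb => ?_⟩
  · have hW := key z φ fun w => .inl (hφ w)
    have h0 := hexp z φ 0 fun w => if_neg fun ⟨b, hb, e⟩ => hdisj _ (hφ w) (hu e ▸ hb)
    have htw := tw_eq_of_const hst s hs π h χ hloc (φ ≫ q) _ _ hW 0 h0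
    rw [zpow_zero] at htw
    have htw' : tw hst s hs π h χ hloc (φ ≫ q) _ _ hW = φ ≫ q := htw.trans (Category.comp_id _)
    rw [hGn, hGn, hGt z (φ ≫ q) _ _ _ hW (by rw [htw', Category.assoc, Category.assoc, Functor.map_comp, ← e₂]; simp)]
    congr 1
  · have hW := key z φ fun w => .inr (hφ w)
    have h1 := hexp z φ 1 fun w => if_pos ⟨_, hφ w, rfl⟩
    have htw := tw_eq_of_const hst s hs π h χ hloc (φ ≫ q) _ _ hW 1 h1
    rw [zpow_one] at htw
    rw [hGn, hGn, hGt z (φ ≫ q) _ _ _ hW (by rw [htw, Category.assoc φ q, Functor.map_comp, hqs, ← e₂]; simp)]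
    congr 1
    rw [htw, Category.assoc]
  · rw [hGn, hGn] at hb
    have h1 : ∀ (r : x ⟶ x) (hr : ((𝒳.p.map ω ≫ l₂) ≫ π) ≫ p₀ = 𝒳.p.map r) (r' : x ⟶ x)
        (hr' : ((𝒳.p.map ω ≫ l₂) ≫ π) ≫ p₀ = 𝒳.p.map r'),
        G x r (𝒳.p.map ω ≫ l₂) hr = G x r' (𝒳.p.map ω ≫ l₂) hr' → r = r' :=
      fun r hr r' hr' => hGi _ _ _ _ _ _
    have h2 := h1 _ _ _ _ hb
    rw [← Category.assoc, hω, Category.id_comp] at h2
    exact h2.symm

end Groth.Agent.IsoNatClean
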