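import Groth.Agent.RepOne.Desc
import Groth.Agent.ASp.FppfGlue
import Groth.Agent.ASt.Fp
import Groth.Prelude.Def_AlgSt2
/-!
Morphisms of a stack are glued on an open cover; twisting a morphism by powers of an automorphism.
-/

set_option autoImplicit false
set_option backward.isDefEq.respectTransparency false
set_option backward.isDefEq.respectTransparency.types false
set_option linter.unusedSectionVars false

universe u

open CategoryTheory AlgebraicGeometry

namespace Groth.Agent.IsoNatClean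

open Groth.Agent.ASt Groth.Agent.RepOne

variable {S : Scheme.{u}} {𝒳 : AlgSt.Cat S} [h𝒳 : FibCat.IsFibGrpd 𝒳.p]
  (hst : Stk.IsStack (AlgSp.J S) 𝒳)

theorem mem_J_of_opens {B : Over S} (R : Sieve B)
    (h : ∀ w : ↥B.left, ∃ V : B.left.Opens, w ∈ V ∧
      R (Over.homMk V.ι : Over.mk (V.ι ≫ B.hom) ⟶ B)) : R ∈ (AlgSp.J S) B := by
  choose V hw hV using h
  refine GrothendieckTopology.superset_covering _ ?_
    (Groth.Agent.ASp.ofArrows_mem_J (T := B) (U := fun w => Over.mk ((V w).ι ≫ B.hom))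
      (c := fun w => (Over.homMk (V w).ι : Over.mk ((V w).ι ≫ B.hom) ⟶ B))
      (fun w => (inferInstance : Flat (V w).ι)) (fun w => (inferInstance : LocallyOfFinitePresentation (V w).ι))
      fun w => ⟨w, ⟨w, hw w⟩, rfl⟩)
  rw [Sieve.ofArrows, Sieve.generate_le_iff]
  rintro _ _ ⟨w⟩
  exact hV w

/-- The tautological cone of an object. -/
noncomputable def objCone {B : Over S} (R : Sieve B) (a : 𝒳.obj) (ha : 𝒳.p.obj a = B) :
    SCone ((Stk.resSieve R 𝒳).obj (objFun a ha)) where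
  pt := a
  base := ha
  ι s := pullHom a ha s.obj.hom
  map_ι s := map_pullHom a ha s.obj.hom
  nat {s t} m := objMap_comp a ha m.hom

/-- The composite of a pullback with a morphism over the test base. -/
theorem range_map_pullHom {B W : Over S} (a : 𝒳.obj) (ha : 𝒳.p.obj a = B) (g : W ⟶ B) (w) :
    ∃ w', (𝒳.p.map (pullHom a ha g)).left w = (eqToHom ha.symm).left (g.left w') := by
  rw [map_pullHom]
  exact ⟨_, rfl⟩

include hst in
/-- Two morphisms with the same image agree if they agree locally on the base. -/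
theorem ext_local {a x : 𝒳.obj} {τ τ' : a ⟶ x} (hb : 𝒳.p.map τ = 𝒳.p.map τ')
    (h : ∀ w : ↥(𝒳.p.obj a).left, ∃ V : (𝒳.p.obj a).left.Opens, w ∈ V ∧
      ∀ (y : 𝒳.obj) (φ : y ⟶ a), (∀ z, (𝒳.p.map φ).left z ∈ V) → φ ≫ τ = φ ≫ τ') : τ = τ' := by
  let R : Sieve (𝒳.p.obj a) :=
    { arrows := fun W g => ∀ (y : 𝒳.obj) (φ : y ⟶ a) (χ : 𝒳.p.obj y ⟶ W), χ ≫ g = 𝒳.p.map φ → φ ≫ τ = φ ≫ τ'
      downward_closed := fun {W W'} g hg k y φ χ e => hg y φ (χ ≫ k) (by rw [Category.assoc]; exact e) }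
  have hR : R ∈ (AlgSp.J S) (𝒳.p.obj a) := mem_J_of_opens R fun w => by
    obtain ⟨V, hw, hV⟩ := h w
    refine ⟨V, hw, fun y φ χ e => hV y φ fun z => ?_⟩
    rw [← e]
    exact (χ.left z).2
  let v := facMap τ' τ (𝟙 _) (by rw [Category.id_comp, hb])
  let c := objCone R a rfl
  obtain ⟨hu, -⟩ := isStack_iff.1 hst R hR
  have hv : ∀ s, c.ι s ≫ v = c.ι s := fun s => by
    refine hom_ext τ' ?_ ?_
    · rw [Functor.map_comp, map_facMap]
      exact Category.comp_id _
    · rw [Category.assoc, facMap_comp]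
      exact s.property _ (c.ι s) (eqToHom (pull_base a rfl s.obj.hom))
        (by rw [show 𝒳.p.map (c.ι s) = _ from map_pullHom a rfl s.obj.hom]; simp)
  have : v = 𝟙 a := (hu _ c c).unique
    ⟨(map_facMap _ _ _ _).trans rfl, hv⟩ ⟨(𝒳.p.map_id a).trans rfl, fun s => Category.comp_id _⟩
  rw [← facMap_comp τ' τ (𝟙 _) (by rw [Category.id_comp, hb])]
  change v ≫ τ' = τ'
  rw [this, Category.id_comp]

include hst in
theorem ext_of_isEmpty {a x : 𝒳.obj} {τ τ' : a ⟶ x} (hb : 𝒳.p.map τ = 𝒳.p.map τ')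
    [IsEmpty ↥(𝒳.p.obj a).left] : τ = τ' :=
  ext_local hst hb fun w => isEmptyElim w

variable {x : 𝒳.obj} (s : Aut x) (hs : 𝒳.p.map s.hom = 𝟙 (𝒳.p.obj x))

include hs in
theorem map_zpow_hom (c : ℤ) : 𝒳.p.map (s ^ c).hom = 𝟙 (𝒳.p.obj x) := by
  have h1 : 𝒳.p.mapAut x s = 1 := Iso.ext hs
  have h2 := congrArg Iso.hom (map_zpow (𝒳.p.mapAut x) s c)
  rw [h1, one_zpow] at h2
  exact h2

theorem zpow_add_hom (c d : ℤ) : (s ^ c).hom ≫ (s ^ d).hom = (s ^ (c + d)).hom := by
  rw [add_comm, zpow_add]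
  rfl

/-- `τ` is `q` followed by `s ^ n`, for a locally constant `n`. -/
structure IsTw {a : 𝒳.obj} (q : a ⟶ x) (n : ↥(𝒳.p.obj a).left → ℤ) (τ : a ⟶ x) : Prop where
  base : 𝒳.p.map τ = 𝒳.p.map q
  loc : ∀ (y : 𝒳.obj) (φ : y ⟶ a) (c : ℤ), (∀ z, n ((𝒳.p.map φ).left z) = c) →
    φ ≫ τ = φ ≫ q ≫ (s ^ c).hom

variable {s}

theorem IsTw.precomp {a b : 𝒳.obj} {q : a ⟶ x} {n} {τ : a ⟶ x} (h : IsTw s q n τ) (φ : b ⟶ a) :
    IsTw s (φ ≫ q) (fun z => n ((𝒳.p.map φ).left z)) (φ ≫ τ) where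
  base := by rw [Functor.map_comp, Functor.map_comp, h.base]
  loc y ψ c hc := by
    simp only [← Category.assoc]
    rw [h.loc y (ψ ≫ φ) c fun z => by rw [Functor.map_comp]; exact hc z]
    simp

include hst in
theorem IsTw.unique {a : 𝒳.obj} {q : a ⟶ x} {n : ↥(𝒳.p.obj a).left → ℤ} (hn : IsLocallyConstant n)
    {τ τ' : a ⟶ x} (h : IsTw s q n τ) (h' : IsTw s q n τ') : τ = τ' :=
  ext_local hst (h.base.trans h'.base.symm) fun w => ⟨⟨n ⁻¹' {n w}, hn.isOpen_fiber _⟩, rfl, fun y φ hφ => by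
    rw [h.loc y φ (n w) hφ, h'.loc y φ (n w) hφ]⟩

include hst hs in
theorem IsTw.zero {a : 𝒳.obj} (q : a ⟶ x) : IsTw s q 0 q where
  base := rfl
  loc y φ c hc := by
    rcases isEmpty_or_nonempty ↥(𝒳.p.obj y).left with h | h
    · exact ext_of_isEmpty hst (by rw [Functor.map_comp, Functor.map_comp, Functor.map_comp, map_zpow_hom s hs]; simp)
    · obtain ⟨z⟩ := h
      rw [← hc z]
      simp only [Pi.zero_apply, zpow_zero]
      exact (congrArg (φ ≫ ·) (Category.comp_id q)).symm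

include hst hs in
theorem IsTw.trans {a : 𝒳.obj} {q τ σ : a ⟶ x} {n m : ↥(𝒳.p.obj a).left → ℤ} (hn : IsLocallyConstant n)
    (hm : IsLocallyConstant m) (h : IsTw s q n τ) (h' : IsTw s τ m σ) : IsTw s q (fun z => n z + m z) σ where
  base := h'.base.trans h.base
  loc y φ c hc := by
    refine ext_local hst ?_ fun w => ?_
    · rw [Functor.map_comp, Functor.map_comp, Functor.map_comp, map_zpow_hom s hs, h'.base, h.base]
      simp
    let w' := (𝒳.p.map φ).left w
    refine ⟨(𝒳.p.map φ).left ⁻¹ᵁ ⟨n ⁻¹' {n w'} ∩ m ⁻¹' {m w'},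
      (hn.isOpen_fiber _).inter (hm.isOpen_fiber _)⟩, ⟨rfl, rfl⟩, fun y' ψ hψ => ?_⟩
    have h1 := h'.loc y' (ψ ≫ φ) (m w') fun z => by rw [Functor.map_comp]; exact (hψ z).2
    have h2 := h.loc y' (ψ ≫ φ) (n w') fun z => by rw [Functor.map_comp]; exact (hψ z).1
    simp only [Category.assoc] at h1 h2
    rw [h1, ← hc w, ← zpow_add_hom]
    simp only [← Category.assoc] at h2 ⊢
    rw [h2]

open Classical in
include hst hs in
/-- Twists exist. -/
theorem exists_isTw {a : 𝒳.obj} (q : a ⟶ x) {n : ↥(𝒳.p.obj a).left → ℤ} (hn : IsLocallyConstant n) :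
    ∃ τ, IsTw s q n τ := by
  let B := 𝒳.p.obj a
  let R : Sieve B :=
    { arrows := fun W g => ∃ c : ℤ, ∀ z, n (g.left z) = c
      downward_closed := fun {W W'} g ⟨c, hc⟩ k => ⟨c, fun z => hc (k.left z)⟩ }
  have hR : R ∈ (AlgSp.J S) B := mem_J_of_opens R fun w =>
    ⟨⟨n ⁻¹' {n w}, hn.isOpen_fiber _⟩, rfl, ⟨n w, fun z => z.2⟩⟩
  let cv : ∀ {W : Over S}, (W ⟶ B) → ℤ := fun {W} g => if h : Nonempty ↥W.left then n (g.left h.some) else 0
  have hcv : ∀ {W : Over S} (g : W ⟶ B), R g → ∀ z, n (g.left z) = cv g := fun {W} g ⟨c, hc⟩ z => by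
    have h : Nonempty ↥W.left := ⟨z⟩
    simp only [cv, dif_pos h, hc]
  let c := objCone R a rfl
  let c' : SCone ((Stk.resSieve R 𝒳).obj (objFun a rfl)) :=
    { pt := a
      base := rfl
      ι := fun t => facMap q (c.ι t ≫ q ≫ (s ^ cv t.obj.hom).hom) (𝒳.p.map (c.ι t))
        (by rw [Functor.map_comp, Functor.map_comp, map_zpow_hom s hs]; simp)
      map_ι := fun t => by rw [map_facMap]; exact c.map_ι t
      nat := fun {t t'} m => by
        refine hom_ext q ?_ ?_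
        · rw [Functor.map_comp, map_facMap, map_facMap, ← Functor.map_comp, c.nat]
        · rw [Category.assoc, facMap_comp, facMap_comp, ← Category.assoc, c.nat]
          rcases isEmpty_or_nonempty ↥t.obj.left.left with h | h
          · haveI : IsEmpty ↥(𝒳.p.obj (((Stk.resSieve R 𝒳).obj (objFun a rfl)).obj t)).left := by
              rw [show 𝒳.p.obj (((Stk.resSieve R 𝒳).obj (objFun a rfl)).obj t) = t.obj.left from pull_base a rfl _]
              exact h
            exact ext_of_isEmpty hst (by simp only [Functor.map_comp, map_zpow_hom s hs])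
          · obtain ⟨z⟩ := h
            congr 4
            rw [← hcv _ t.property z, ← hcv _ t'.property (m.hom.left.left z)]
            congr 1
            exact congrArg (fun g => g.left z) (Over.w m.hom) }
  obtain ⟨k, ⟨hk, hι⟩, -⟩ := (isStack_iff.1 hst R hR).1 _ c c'
  refine ⟨k ≫ q, ⟨?_, fun y φ d hd => ?_⟩⟩
  · rw [Functor.map_comp, hk]
    exact Category.id_comp _
  · let t : (Stk.sieveCat R).obj := ⟨Over.mk (𝒳.p.map φ), d, hd⟩
    let χ : y ⟶ pull a rfl (𝒳.p.map φ) :=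
      facMap (pullHom a rfl (𝒳.p.map φ)) φ (eqToHom (pull_base a rfl (𝒳.p.map φ)).symm) (by simp)
    have hφ : χ ≫ c.ι t = φ := facMap_comp _ _ _ _
    rcases isEmpty_or_nonempty ↥(𝒳.p.obj y).left with h | h
    · exact ext_of_isEmpty hst (by simp [map_zpow_hom s hs, hk]; exact congrArg (_ ≫ ·) (Category.id_comp _))
    · obtain ⟨z⟩ := h
      rw [← hφ, Category.assoc, Category.assoc, ← Category.assoc (c.ι t) k q, hι t]
      congr 1
      refine (facMap_comp q (c.ι t ≫ q ≫ (s ^ cv t.obj.hom).hom) (𝒳.p.map (c.ι t))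
        (by rw [Functor.map_comp, Functor.map_comp, map_zpow_hom s hs]; simp)).trans ?_
      rw [← hd z]
      exact congrArg (fun k => c.ι t ≫ q ≫ (s ^ k).hom) (hcv _ t.property z).symm

end Groth.Agent.IsoNatClean
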